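import Cfsg.Agent.H94.Sp.Base_m3
import Cfsg.Agent.S2238
import Cfsg.Agent.S1159
import Cfsg.Agent.LieRecognition.ReeTorusTw
import Cfsg.Agent.OddRank.SzTits
import Cfsg.Agent.OddCyclic.ClaimC.SzIso
import Cfsg.Agent.Prune
set_option linter.all false

section
prune_inst 0x7f00000000000000000000000000000000000000000000000000000000000000000000000000000000000000000000000000000000000000000000000000000000000000000000000000000000000000003fffffffffffffffffffffffffffbeffbdffffffff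

-- part: H564/SzRee
section
set_option linter.all false
open scoped Cfsg.Agent.FastGrp

/-!
# The prime graph of the Suzuki groups and of the small Ree groups (helper564, for S4313)

* `sz_cyc` : every odd prime divisor of `|Sz(q)|` divides the order of a cyclic subgroup containing the centralizers of
  its nonidentity elements;
* `ac1_ree` : `AC1` for the small Ree groups;
* `good2_suzuki`, `good2_ree`.
-/

set_option autoImplicit false
set_option linter.unusedSectionVars false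

namespace Cfsg.Agent.H564.SzRee

open Subgroup Cfsg.Agent.H94.PG Cfsg.Agent.H564.NearTwo

/-- commuting elements of prime order in a group of rank one -/
theorem mem_zpowers_of_rank {G : Type*} [Group G] [Finite G] {s : ℕ} (hr : Cfsg.PRankLE s 1 G)
    {a b : G} (ha : a ^ s = 1) (hb : orderOf b = s) (hab : Commute a b) : a ∈ zpowers b := by
  set A := closure ({a, b} : Set G) with hA
  have hcomm : ∀ x ∈ ({a, b} : Set G), ∀ y ∈ ({a, b} : Set G), x * y = y * x := by
    intro x hx y hy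
    rcases hx with rfl | rfl <;> rcases hy with rfl | rfl
    · rfl
    · exact hab.eq
    · exact hab.eq.symm
    · rfl
  have hAc : IsMulCommutative A := isMulCommutative_closure hcomm
  have hAs : ∀ x ∈ A, x ^ s = 1 := by
    intro x hx
    induction hx using closure_induction with
    | mem x hx =>
      rcases hx with rfl | rfl
      · exact ha
      · rw [← hb, pow_orderOf_eq_one]
    | one => exact one_pow s
    | mul x y hx hy h1 h2 =>
      have : Commute x y := congrArg Subtype.val (hAc.is_comm.comm ⟨x, hx⟩ ⟨y, hy⟩)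
      rw [this.mul_pow, h1, h2, one_mul]
    | inv x _ h1 => rw [inv_pow, h1, inv_one]
  have h1 := hr A hAc hAs
  rw [pow_one] at h1
  have h2 : zpowers b ≤ A := by
    rw [zpowers_le]
    exact subset_closure (by simp)
  have h3 : zpowers b = A := by
    apply Subgroup.eq_of_le_of_card_ge h2
    rw [Nat.card_zpowers, hb]
    exact h1
  rw [h3]
  exact subset_closure (by simp)

/-- a partition: members isolate their elements of prime order `s`, if the `s`-rank is one -/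
theorem mem_of_partition {G : Type*} [Group G] [Finite G] (M : Subgroup G → Prop)
    (hM : ∀ g : G, g ≠ 1 → ∃! U : Subgroup G, M U ∧ g ∈ U) {U : Subgroup G} (hU : M U) {y : G} (hy : y ∈ U)
    {s : ℕ} (hs : s.Prime) (hys : orderOf y = s) (hr : Cfsg.PRankLE s 1 G) {z : G} (hz : Commute z y) : z ∈ U := by
  have huniq : ∀ V : Subgroup G, M V → ∀ g : G, g ≠ 1 → g ∈ U → g ∈ V → V = U := by
    intro V hV g hg hgU hgV
    exact (hM g hg).unique ⟨hV, hgV⟩ ⟨hU, hgU⟩
  have hy1 : y ≠ 1 := by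
    rintro rfl
    rw [orderOf_one] at hys
    exact hs.one_lt.ne hys
  by_cases hz1 : z = 1
  · rw [hz1]; exact one_mem U
  by_cases hd : s ∣ orderOf z
  · have ho := orderOf_pow_orderOf_div (orderOf_pos z).ne' hd
    have h1 : y ∈ zpowers (z ^ (orderOf z / s)) :=
      mem_zpowers_of_rank hr (by rw [← hys, pow_orderOf_eq_one]) ho (hz.symm.pow_right _)
    obtain ⟨V, ⟨hV, hzV⟩, -⟩ := hM z hz1
    have h2 : y ∈ V := by
      have : zpowers (z ^ (orderOf z / s)) ≤ V := by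
        rw [zpowers_le]
        exact pow_mem hzV _
      exact this h1
    rw [← huniq V hV y hy1 hy h2]
    exact hzV
  · have h1 : (z * y) ^ orderOf z = y ^ orderOf z := by
      rw [hz.mul_pow, pow_orderOf_eq_one, one_mul]
    have h2 : y ^ orderOf z ≠ 1 := by
      intro h
      have := orderOf_dvd_of_pow_eq_one h
      rw [hys] at this
      exact hd this
    have h3 : z * y ≠ 1 := by
      intro h
      rw [h, one_pow] at h1
      exact h2 h1.symm
    obtain ⟨V, ⟨hV, hzV⟩, -⟩ := hM (z * y) h3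
    have h4 : V = U := huniq V hV _ h2 (pow_mem hy _) (h1 ▸ pow_mem hzV _)
    rw [h4] at hzV
    have h5 := mul_mem hzV (inv_mem hy)
    rwa [mul_inv_cancel_right] at h5

/-- **Suzuki groups** -/
theorem sz_cyc {G : Type*} [Group G] [Finite G] (h : Cfsg.Lie.IsoSuzuki G) {r : ℕ} (hr : r.Prime) (hr2 : r ≠ 2)
    (hd : r ∣ Nat.card G) :
    ∃ T : Subgroup G, r ∣ Nat.card T ∧ IsCyclic T ∧ ∀ y ∈ T, y ≠ 1 → centralizer ({y} : Set G) ≤ T := by
  have hrank : ∀ s : ℕ, s.Prime → s ≠ 2 → Cfsg.PRankLE s 1 G := fun s hs hs2 => Cfsg.Agent.OddRank.SzTits.suzuki h hs hs2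
  obtain ⟨F, _, _, m, hm, hF, ⟨e⟩⟩ := h
  obtain ⟨e'⟩ := Cfsg.Agent.OddCyclic.ClaimC.SzIso.iso hm hF
  -- the partition in `G`
  let f : ↥(Cfsg.Sz F m) ≃* G := e'.trans e.symm
  let M' : Subgroup G → Prop := fun U => ((∃ P : Sylow 2 ↥(Cfsg.Sz F m), U.comap f.toMonoidHom = (P : Subgroup ↥(Cfsg.Sz F m))) ∨
      (IsCyclic ↥(U.comap f.toMonoidHom) ∧ Nat.card ↥(U.comap f.toMonoidHom) ∈ ({2 ^ (2 * m + 1) - 1, 2 ^ (2 * m + 1) + 2 ^ (m + 1) + 1, 2 ^ (2 * m + 1) - 2 ^ (m + 1) + 1} : Set ℕ)))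
  have hM' : ∀ g : G, g ≠ 1 → ∃! U : Subgroup G, M' U ∧ g ∈ U := by
    intro g hg
    obtain ⟨U, ⟨h1, h2⟩, h3⟩ := Cfsg.Agent.S2238.result hm hF (f.symm g) (by
      intro h
      apply hg
      rw [← f.apply_symm_apply g, h, map_one])
    have hcm : ∀ V : Subgroup ↥(Cfsg.Sz F m), (V.map f.toMonoidHom).comap f.toMonoidHom = V := fun V =>
      comap_map_eq_self_of_injective f.injective V
    refine ⟨U.map f.toMonoidHom, ⟨?_, ?_⟩, ?_⟩
    · change ((∃ P : Sylow 2 ↥(Cfsg.Sz F m), (U.map f.toMonoidHom).comap f.toMonoidHom = (P : Subgroup ↥(Cfsg.Sz F m))) ∨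
        (IsCyclic ↥((U.map f.toMonoidHom).comap f.toMonoidHom) ∧ Nat.card ↥((U.map f.toMonoidHom).comap f.toMonoidHom) ∈ ({2 ^ (2 * m + 1) - 1, 2 ^ (2 * m + 1) + 2 ^ (m + 1) + 1, 2 ^ (2 * m + 1) - 2 ^ (m + 1) + 1} : Set ℕ)))
      rw [hcm]
      exact h1
    · exact ⟨f.symm g, h2, by simp⟩
    · rintro V ⟨hV, hgV⟩
      have h4 := h3 (V.comap f.toMonoidHom) ⟨hV, by
        change f (f.symm g) ∈ V
        rwa [f.apply_symm_apply]⟩
      rw [← h4]
      exact (map_comap_eq_self_of_surjective f.surjective V).symm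
  have f1 : Fact r.Prime := ⟨hr⟩
  obtain ⟨x, hx⟩ := exists_prime_orderOf_dvd_card' r hd
  have hx1 : x ≠ 1 := by
    rintro rfl
    rw [orderOf_one] at hx
    exact hr.one_lt.ne hx
  obtain ⟨U, ⟨hU, hxU⟩, -⟩ := hM' x hx1
  have hcardU : Nat.card ↥(U.comap f.toMonoidHom) = Nat.card U := by
    rw [Nat.card_congr ((U.comap f.toMonoidHom).equivMapOfInjective f.toMonoidHom f.injective).toEquiv,
      map_comap_eq_self_of_surjective f.surjective U]
  have hrU : r ∣ Nat.card U := by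
    rw [← hx, ← Subgroup.orderOf_mk x hxU]
    exact orderOf_dvd_natCard _
  have hU' := hU
  rcases hU with ⟨P, hP⟩ | ⟨hc, hN⟩
  · exfalso
    rw [← hcardU, hP] at hrU
    obtain ⟨k, hk⟩ := IsPGroup.iff_card.1 P.isPGroup'
    rw [hk] at hrU
    exact hr2 ((Nat.prime_dvd_prime_iff_eq hr Nat.prime_two).1 (hr.dvd_of_dvd_pow hrU))
  · have hcU : IsCyclic U := by
      have h5 := (U.comap f.toMonoidHom).equivMapOfInjective f.toMonoidHom f.injective
      have h6 : IsCyclic ↥((U.comap f.toMonoidHom).map f.toMonoidHom) := h5.isCyclic.1 hc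
      rwa [map_comap_eq_self_of_surjective f.surjective U] at h6
    have hodd : ¬ 2 ∣ Nat.card U := by
      rw [← hcardU]
      have h7 : 2 ∣ 2 ^ (2 * m + 1) := dvd_pow_self 2 (by omega)
      have h8 : 2 ∣ 2 ^ (m + 1) := dvd_pow_self 2 (by omega)
      have h9 : 2 ^ (m + 1) ≤ 2 ^ (2 * m + 1) := Nat.pow_le_pow_right (by norm_num) (by omega)
      have h10 : 0 < 2 ^ (2 * m + 1) := by positivity
      rcases hN with hN | hN | hN <;> rw [hN] <;> omega
    refine ⟨U, hrU, hcU, fun y hy hy1 z hz => ?_⟩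
    rw [mem_centralizer_singleton_iff] at hz
    obtain ⟨s, hs, hsd⟩ := exists_prime_dvd hy1
    have ho := orderOf_pow_orderOf_div (orderOf_pos y).ne' hsd
    have hs2 : s ≠ 2 := by
      rintro rfl
      apply hodd
      refine hsd.trans ?_
      rw [← Subgroup.orderOf_mk y hy]
      exact orderOf_dvd_natCard _
    exact mem_of_partition M' hM' hU' (pow_mem hy _) hs ho (hrank s hs hs2) (Commute.pow_right hz _)

/-- abelian isolated subgroups for all odd primes in the Suzuki groups -/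
theorem hasCC_suzuki {G : Type*} [Group G] [Finite G] (h : Cfsg.Lie.IsoSuzuki G) {r : ℕ} (hr : r.Prime) (hr2 : r ≠ 2)
    (hd : r ∣ Nat.card G) : HasCC G r := by
  obtain ⟨T, h1, h2, h3⟩ := sz_cyc h hr hr2 hd
  refine ⟨T, h1, fun a ha b hb => ?_, h3⟩
  have := (IsCyclic.commGroup (α := T)).mul_comm ⟨a, ha⟩ ⟨b, hb⟩
  exact congrArg Subtype.val this

theorem good2_suzuki {G : Type*} [Group G] [Finite G] (h : Cfsg.Lie.IsoSuzuki G) : Good2 G :=
  fun _ hr hd hn => hasCC_suzuki h hr (fun h2 => hn (Or.inl h2)) hd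

/-- **small Ree groups** -/
theorem ac1_ree {K : Type*} [Field K] [Fintype K] {m : ℕ} (hm : 1 ≤ m) (hK : Fintype.card K = 3 ^ (2 * m + 1)) :
    AC1 ↥(Cfsg.Lie.twistedG2 K (3 ^ m)) := by
  intro x hx h2 hA a b ha hb
  have hfin : Finite ↥(Cfsg.Lie.twistedG2 K (3 ^ m)) := inferInstance
  have h1 := fun d => Cfsg.Agent.S1159.result hm hK d
  have hx1 : x ≠ 1 := by
    rintro rfl
    rw [orderOf_one] at hx
    exact Nat.not_prime_one hx
  have hadj : ∀ g : ↥(Cfsg.Lie.twistedG2 K (3 ^ m)), 2 ∣ orderOf g → orderOf x ∣ orderOf g → False := by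
    intro g h3 h4
    exact hA (adj_of_dvd hx Nat.prime_two h2 (Commute.refl g) h4 h3 (orderOf_pos _).ne' (orderOf_pos _).ne')
  have hq : orderOf x ∣ (3 ^ (2 * m + 1)) ^ 2 - 3 ^ (2 * m + 1) + 1 := by
    have hfac : (3 ^ (2 * m + 1) - 3 ^ (m + 1) + 1) * (3 ^ (2 * m + 1) + 3 ^ (m + 1) + 1) =
        (3 ^ (2 * m + 1)) ^ 2 - 3 ^ (2 * m + 1) + 1 := by
      have h3 : 3 ^ (m + 1) ≤ 3 ^ (2 * m + 1) := Nat.pow_le_pow_right (by norm_num) (by omega)
      have h4 : 3 ^ (2 * m + 1) ≤ (3 ^ (2 * m + 1)) ^ 2 := Nat.le_self_pow (by norm_num) _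
      have h5 : (3 ^ (m + 1)) ^ 2 = 3 * 3 ^ (2 * m + 1) := by ring
      zify [h3, h4]
      have h6 : ((3 : ℤ) ^ (m + 1)) ^ 2 = 3 * 3 ^ (2 * m + 1) := by exact_mod_cast h5
      linear_combination -h6
    rw [← hfac]
    rcases (h1 (orderOf x)).1 ⟨x, rfl⟩ with h | h | h | h | h | h
    · exfalso
      obtain ⟨g, hg⟩ := (h1 6).2 (Or.inl dvd_rfl)
      exact hadj g (by rw [hg]; norm_num) (by rw [hg]; exact h)
    · exfalso
      have h' : orderOf x ∣ 3 ^ 2 := h
      have h3 := (Nat.prime_dvd_prime_iff_eq hx Nat.prime_three).1 (hx.dvd_of_dvd_pow h')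
      obtain ⟨g, hg⟩ := (h1 6).2 (Or.inl dvd_rfl)
      exact hadj g (by rw [hg]; norm_num) (by rw [hg, h3]; norm_num)
    · exfalso
      obtain ⟨g, hg⟩ := (h1 _).2 (Or.inr (Or.inr (Or.inl dvd_rfl)))
      refine hadj g ?_ (by rw [hg]; exact h)
      rw [hg]
      have : 3 - 1 ∣ 3 ^ (2 * m + 1) - 1 ^ (2 * m + 1) := Nat.sub_dvd_pow_sub_pow 3 1 (2 * m + 1)
      simpa using this
    · exfalso
      obtain ⟨g, hg⟩ := (h1 _).2 (Or.inr (Or.inr (Or.inr (Or.inl dvd_rfl))))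
      refine hadj g ?_ (by rw [hg]; exact h)
      rw [hg]
      have h5 : 3 ^ (2 * m + 1) % 4 = 3 := by
        rw [pow_succ, pow_mul, Nat.mul_mod, Nat.pow_mod]
        norm_num
      omega
    · exact h.mul_right _
    · exact h.mul_left _
  have hc := (Cfsg.Agent.LieRecognition.ReeTorusTw.isCyclic_centralizer hK hx1 hq).1
  have h3 := (IsCyclic.commGroup (α := centralizer ({x} : Set ↥(Cfsg.Lie.twistedG2 K (3 ^ m))))).mul_comm
    ⟨a, by rw [mem_centralizer_singleton_iff]; exact ha⟩ ⟨b, by rw [mem_centralizer_singleton_iff]; exact hb⟩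
  exact congrArg Subtype.val h3

theorem good2_ree {G : Type*} [Group G] (h : Cfsg.Lie.IsoRee G) : Good2 G := by
  obtain ⟨K, _, _, m, hm, hK, ⟨e⟩⟩ := h
  have hfin : Finite ↥(Cfsg.Lie.twistedG2 K (3 ^ m)) := inferInstance
  exact (good2_of_ac1 (ac1_ree hm hK)).congr e.symm

end Cfsg.Agent.H564.SzRee
end

-- part: H17/NS/SzCyc
section
set_option linter.all false
open scoped Cfsg.Agent.FastGrp
/-!
# Isolated cyclic subgroups of the Suzuki groups, with their orders (helper17)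
-/

set_option autoImplicit false
set_option linter.unusedSectionVars false

namespace Cfsg.Agent.H17.NS.SzCyc

open Subgroup Cfsg.Agent.H94.PG Cfsg.Agent.H564.SzRee

/-- **Suzuki groups**: `SzRee.sz_cyc` with the orders -/
theorem sz_cyc {G : Type*} [Group G] [Finite G] {F : Type} [Field F] [Fintype F] {m : ℕ} (hm : 1 ≤ m)
    (hF : Fintype.card F = 2 ^ (2 * m + 1)) (e : G ≃* ↥(Cfsg.Lie.Sz F (2 ^ (m + 1)))) {r : ℕ} (hr : r.Prime)
    (hr2 : r ≠ 2) (hd : r ∣ Nat.card G) :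
    ∃ T : Subgroup G, r ∣ Nat.card T ∧ IsCyclic T ∧ (∀ y ∈ T, y ≠ 1 → centralizer ({y} : Set G) ≤ T) ∧
      Nat.card T ∈ ({2 ^ (2 * m + 1) - 1, 2 ^ (2 * m + 1) + 2 ^ (m + 1) + 1,
        2 ^ (2 * m + 1) - 2 ^ (m + 1) + 1} : Set ℕ) := by
  have h : Cfsg.Lie.IsoSuzuki G := ⟨F, _, _, m, hm, hF, ⟨e⟩⟩
  have hrank : ∀ s : ℕ, s.Prime → s ≠ 2 → Cfsg.PRankLE s 1 G := fun s hs hs2 => Cfsg.Agent.OddRank.SzTits.suzuki h hs hs2
  obtain ⟨e'⟩ := Cfsg.Agent.OddCyclic.ClaimC.SzIso.iso hm hF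
  -- the partition in `G`
  let f : ↥(Cfsg.Sz F m) ≃* G := e'.trans e.symm
  let M' : Subgroup G → Prop := fun U => ((∃ P : Sylow 2 ↥(Cfsg.Sz F m), U.comap f.toMonoidHom = (P : Subgroup ↥(Cfsg.Sz F m))) ∨
      (IsCyclic ↥(U.comap f.toMonoidHom) ∧ Nat.card ↥(U.comap f.toMonoidHom) ∈ ({2 ^ (2 * m + 1) - 1, 2 ^ (2 * m + 1) + 2 ^ (m + 1) + 1, 2 ^ (2 * m + 1) - 2 ^ (m + 1) + 1} : Set ℕ)))
  have hM' : ∀ g : G, g ≠ 1 → ∃! U : Subgroup G, M' U ∧ g ∈ U := by
    intro g hg
    obtain ⟨U, ⟨h1, h2⟩, h3⟩ := Cfsg.Agent.S2238.result hm hF (f.symm g) (by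
      intro h
      apply hg
      rw [← f.apply_symm_apply g, h, map_one])
    have hcm : ∀ V : Subgroup ↥(Cfsg.Sz F m), (V.map f.toMonoidHom).comap f.toMonoidHom = V := fun V =>
      comap_map_eq_self_of_injective f.injective V
    refine ⟨U.map f.toMonoidHom, ⟨?_, ?_⟩, ?_⟩
    · change ((∃ P : Sylow 2 ↥(Cfsg.Sz F m), (U.map f.toMonoidHom).comap f.toMonoidHom = (P : Subgroup ↥(Cfsg.Sz F m))) ∨
        (IsCyclic ↥((U.map f.toMonoidHom).comap f.toMonoidHom) ∧ Nat.card ↥((U.map f.toMonoidHom).comap f.toMonoidHom) ∈ ({2 ^ (2 * m + 1) - 1, 2 ^ (2 * m + 1) + 2 ^ (m + 1) + 1, 2 ^ (2 * m + 1) - 2 ^ (m + 1) + 1} : Set ℕ)))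
      rw [hcm]
      exact h1
    · exact ⟨f.symm g, h2, by simp⟩
    · rintro V ⟨hV, hgV⟩
      have h4 := h3 (V.comap f.toMonoidHom) ⟨hV, by
        change f (f.symm g) ∈ V
        rwa [f.apply_symm_apply]⟩
      rw [← h4]
      exact (map_comap_eq_self_of_surjective f.surjective V).symm
  have f1 : Fact r.Prime := ⟨hr⟩
  obtain ⟨x, hx⟩ := exists_prime_orderOf_dvd_card' r hd
  have hx1 : x ≠ 1 := by
    rintro rfl
    rw [orderOf_one] at hx
    exact hr.one_lt.ne hx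
  obtain ⟨U, ⟨hU, hxU⟩, -⟩ := hM' x hx1
  have hcardU : Nat.card ↥(U.comap f.toMonoidHom) = Nat.card U := by
    rw [Nat.card_congr ((U.comap f.toMonoidHom).equivMapOfInjective f.toMonoidHom f.injective).toEquiv,
      map_comap_eq_self_of_surjective f.surjective U]
  have hrU : r ∣ Nat.card U := by
    rw [← hx, ← Subgroup.orderOf_mk x hxU]
    exact orderOf_dvd_natCard _
  have hU' := hU
  rcases hU with ⟨P, hP⟩ | ⟨hc, hN⟩
  · exfalso
    rw [← hcardU, hP] at hrU
    obtain ⟨k, hk⟩ := IsPGroup.iff_card.1 P.isPGroup'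
    rw [hk] at hrU
    exact hr2 ((Nat.prime_dvd_prime_iff_eq hr Nat.prime_two).1 (hr.dvd_of_dvd_pow hrU))
  · have hcU : IsCyclic U := by
      have h5 := (U.comap f.toMonoidHom).equivMapOfInjective f.toMonoidHom f.injective
      have h6 : IsCyclic ↥((U.comap f.toMonoidHom).map f.toMonoidHom) := h5.isCyclic.1 hc
      rwa [map_comap_eq_self_of_surjective f.surjective U] at h6
    have hodd : ¬ 2 ∣ Nat.card U := by
      rw [← hcardU]
      have h7 : 2 ∣ 2 ^ (2 * m + 1) := dvd_pow_self 2 (by omega)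
      have h8 : 2 ∣ 2 ^ (m + 1) := dvd_pow_self 2 (by omega)
      have h9 : 2 ^ (m + 1) ≤ 2 ^ (2 * m + 1) := Nat.pow_le_pow_right (by norm_num) (by omega)
      have h10 : 0 < 2 ^ (2 * m + 1) := by positivity
      rcases hN with hN | hN | hN <;> rw [hN] <;> omega
    refine ⟨U, hrU, hcU, fun y hy hy1 z hz => ?_, hcardU ▸ hN⟩
    rw [mem_centralizer_singleton_iff] at hz
    obtain ⟨s, hs, hsd⟩ := exists_prime_dvd hy1
    have ho := orderOf_pow_orderOf_div (orderOf_pos y).ne' hsd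
    have hs2 : s ≠ 2 := by
      rintro rfl
      apply hodd
      refine hsd.trans ?_
      rw [← Subgroup.orderOf_mk y hy]
      exact orderOf_dvd_natCard _
    exact mem_of_partition M' hM' hU' (pow_mem hy _) hs ho (hrank s hs hs2) (Commute.pow_right hz _)

/-- the members for `Sz(8)` : order `r` for `r = 5, 7, 13` -/
theorem sz_eight {G : Type*} [Group G] [Finite G] {F : Type} [Field F] [Fintype F]
    (hF : Fintype.card F = 2 ^ (2 * 1 + 1)) (e : G ≃* ↥(Cfsg.Lie.Sz F (2 ^ (1 + 1)))) {r : ℕ} (hr : r.Prime)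
    (hr2 : r ≠ 2) (hd : r ∣ Nat.card G) :
    ∃ T : Subgroup G, Nat.card T = r ∧ (∀ y ∈ T, y ≠ 1 → centralizer ({y} : Set G) ≤ T) := by
  obtain ⟨T, h1, -, h2, h3⟩ := sz_cyc (by norm_num) hF e hr hr2 hd
  refine ⟨T, ?_, h2⟩
  have h4 : Nat.card T = 7 ∨ Nat.card T = 13 ∨ Nat.card T = 5 := by
    rcases h3 with h | h | h
    · left; rw [h]; norm_num
    · right; left; rw [h]; norm_num
    · right; right
      rw [Set.mem_singleton_iff] at h
      rw [h]; norm_num
  have h5 : (Nat.card T).Prime := by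
    rcases h4 with h | h | h <;> rw [h] <;> norm_num
  exact ((Nat.prime_dvd_prime_iff_eq hr h5).mp h1).symm

end Cfsg.Agent.H17.NS.SzCyc
end
end
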